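import Groth.Agent.ModGroth.FlatTrunc
import Groth.Prelude.Def_DerComp
import Mathlib.CategoryTheory.Abelian.GrothendieckAxioms.Colim
import Mathlib.CategoryTheory.Limits.Constructions.Filtered

/-!
# Localisation of a sheaf of modules at a global section

`F_s` is the cokernel of `awayMap`, a monomorphism; the functor `- ⊗ O_s` has the same universal
property, is exact, and is left adjoint to `F ↦ lim (… → F →s F)`.
-/

set_option autoImplicit false

universe u v w

open CategoryTheory CategoryTheory.Limits Opposite MonoidalCategory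

namespace Groth.Agent.DerCompRHom

section SigmaPi

variable {A : Type w} [Category.{v} A] [Abelian A] [IsGrothendieckAbelian.{v} A] (X : A)
  [HasCoproduct fun _ : ℕ => X] [HasProduct fun _ : ℕ => X]

/-- The comparison `⊕ X ⟶ ∏ X`. -/
noncomputable def sigmaToPi : (∐ fun _ : ℕ => X) ⟶ ∏ᶜ fun _ : ℕ => X :=
  Sigma.desc fun n => Pi.lift fun m => if n = m then 𝟙 X else 0

omit [IsGrothendieckAbelian.{v} A] in
@[reassoc]
lemma ι_sigmaToPi_π (n m : ℕ) :
    Sigma.ι (fun _ : ℕ => X) n ≫ sigmaToPi X ≫ Pi.π (fun _ : ℕ => X) m = if n = m then 𝟙 X else 0 := by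
  simp [sigmaToPi]

open CoproductsFromFiniteFiltered in
lemma mono_sigmaToPi : Mono (sigmaToPi X) := by
  let c := finiteSubcoproductsCocone (fun _ : ℕ => X)
  have hc : IsColimit c := isColimitFiniteSubproductsCocone _
  let D := liftToFinsetObj (Discrete.functor fun _ : ℕ => X)
  let φ : D ⟶ (Functor.const _).obj (∏ᶜ fun _ : ℕ => X) :=
    c.ι ≫ (Functor.const _).map (sigmaToPi X)
  have hφ : ∀ S, Mono (φ.app S) := fun S => by
    refine (SplitMono.mk (∑ x : S, Pi.π (fun _ : ℕ => X) x.1.as ≫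
      Sigma.ι (fun y : S => (Discrete.functor fun _ : ℕ => X).obj y.1) x) ?_).mono
    refine Sigma.hom_ext _ _ fun y => ?_
    change Sigma.ι (fun t : S => (Discrete.functor fun _ : ℕ => X).obj t.1) y ≫
      (Sigma.desc (fun t : S => Sigma.ι (fun _ : ℕ => X) t.1.as) ≫ sigmaToPi X) ≫ _
      = Sigma.ι (fun t : S => (Discrete.functor fun _ : ℕ => X).obj t.1) y ≫ 𝟙 _
    rw [Category.assoc, Sigma.ι_desc_assoc, Category.comp_id]
    rw [Preadditive.comp_sum, Preadditive.comp_sum, Finset.sum_eq_single y]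
    · refine (ι_sigmaToPi_π_assoc X _ _ _).trans ?_
      rw [if_pos rfl]
      exact Category.id_comp _
    · intro x _ hx
      refine (ι_sigmaToPi_π_assoc X _ _ _).trans ?_
      rw [if_neg fun h => hx (Subtype.ext (Discrete.ext h.symm)), zero_comp]
    · intro h
      exact absurd (Finset.mem_univ _) h
  have : Mono φ := NatTrans.mono_of_mono_app φ
  have : AB5OfSize.{0, 0} A := AB5OfSize_shrink.{0, 0, v, v} A
  exact colim.map_mono' φ hc (isColimitConstCocone _ (∏ᶜ fun _ : ℕ => X)) (sigmaToPi X)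
    fun S => (Category.comp_id _).symm

end SigmaPi

open Groth.Agent.ModGroth DerComp

variable {C : Type u} [SmallCategory C] {J : GrothendieckTopology C} {O : Sheaf J CommRingCat.{u}}
  (s : GSec O)

section Mono

lemma ι_awayMap (F : ModSite.Mod O) (n : ℕ) :
    Sigma.ι (fun _ : ℕ => F) n ≫ awayMap s F =
      Sigma.ι (fun _ : ℕ => F) n - smulEnd s F ≫ Sigma.ι (fun _ : ℕ => F) (n + 1) := by
  simp [awayMap]

/-- The left inverse of `1 - shift` on the product, component by component. -/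
noncomputable def invComp (F : ModSite.Mod O) : ℕ → ((∏ᶜ fun _ : ℕ => F) ⟶ F)
  | 0 => Pi.π (fun _ : ℕ => F) 0
  | n + 1 => Pi.π (fun _ : ℕ => F) (n + 1) + invComp F n ≫ smulEnd s F

/-- `awayMap` is a monomorphism. -/
lemma mono_awayMap (F : ModSite.Mod O) : Mono (awayMap s F) := by
  have := sheaf_isGrothendieckAbelian (ModSite.ringSh O)
  have := mono_sigmaToPi F
  let θ : (∏ᶜ fun _ : ℕ => F) ⟶ ∏ᶜ fun _ : ℕ => F := Pi.lift fun
    | 0 => Pi.π (fun _ : ℕ => F) 0
    | n + 1 => Pi.π (fun _ : ℕ => F) (n + 1) - Pi.π (fun _ : ℕ => F) n ≫ smulEnd s F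
  have hθ : θ ≫ Pi.lift (invComp s F) = 𝟙 _ := by
    refine Pi.hom_ext _ _ fun n => ?_
    rw [Category.assoc, Pi.lift_π, Category.id_comp]
    induction n with
    | zero => simp [θ, invComp]
    | succ n ih =>
      rw [invComp, Preadditive.comp_add, ← Category.assoc, ih, Pi.lift_π]
      exact sub_add_cancel _ _
  have : Mono θ := (SplitMono.mk _ hθ).mono
  have h : awayMap s F ≫ sigmaToPi F = sigmaToPi F ≫ θ := by
    refine Sigma.hom_ext _ _ fun k => Pi.hom_ext _ _ fun m => ?_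
    rw [reassoc_of% (ι_awayMap s F k), Category.assoc, Category.assoc, Category.assoc, Pi.lift_π]
    simp only [Preadditive.sub_comp, Category.assoc, ι_sigmaToPi_π]
    cases m with
    | zero => simp [ι_sigmaToPi_π]
    | succ m =>
      dsimp only
      rw [Preadditive.comp_sub, Preadditive.comp_sub, ι_sigmaToPi_π, ι_sigmaToPi_π_assoc]
      by_cases hk : k = m <;> simp [hk]
  exact mono_of_mono_fac h

end Mono

section Tensor

/-- `X ⊗ s = s` on `X ⊗ M`. -/
lemma tL_map_smulEnd (X M : ModSite.Mod O) :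
    (tL X).map (smulEnd s M) = smulEnd s ((tL X).obj M) := by
  change (sh O).map ((fg O).obj X ◁ (fg O).map (smulEnd s M)) = _
  apply ((adjn O).homEquiv _ _).injective
  rw [Adjunction.homEquiv_unit, Adjunction.homEquiv_unit]
  change eta' _ ≫ (fg O).map ((sh O).map _) = eta' _ ≫ (fg O).map (smulEnd s _)
  rw [← eta'_naturality]
  refine PresheafOfModules.hom_ext fun V => ModuleCat.hom_ext (LinearMap.ext fun z => ?_)
  change ((eta' _).app V).hom ((((fg O).obj X ◁ (fg O).map (smulEnd s M))).app V z) =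
    ((smulEnd s _).val.app V).hom (((eta' _).app V).hom z)
  refine Eq.trans ?_ (((eta' _).app V).hom.map_smul
    (show (O.obj ⋙ forget₂ CommRingCat.{u} RingCat.{u}).obj V from GSec.val' s V) z)
  refine congrArg _ ?_
  let r : O.obj.obj V := s.1 V.unop
  let L : ((fg O).obj M).obj V →ₗ[O.obj.obj V] ((fg O).obj M).obj V :=
    ((smulEnd s M).val.app V).hom
  have hL : ∀ y, L y = r • y := fun y => rfl
  suffices h : ∀ z : TensorProduct (O.obj.obj V) (((fg O).obj X).obj V) (((fg O).obj M).obj V),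
      LinearMap.lTensor _ L z = r • z from h z
  intro z
  induction z using TensorProduct.induction_on with
  | zero => rw [map_zero, smul_zero]
  | tmul x y => rw [LinearMap.lTensor_tmul, hL, TensorProduct.tmul_smul]
  | add a b ha hb => rw [map_add, ha, hb, smul_add]

/-- The structure sheaf as an associated sheaf. -/
noncomputable def unitObjIso : unitObj O ≅ ModSite.unit O :=
  (@asIso _ _ _ _ (adjn O).counit
    (inferInstanceAs (IsIso (PresheafOfModules.sheafificationAdjunction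
      (𝟙 (ModSite.ringSh O).obj)).counit))).app (ModSite.unit O)

/-- `- ⊗ O ≅ id`. -/
noncomputable def rho : tR (ModSite.unit O) ≅ 𝟭 (ModSite.Mod O) :=
  (ModSite.tensorBi O).flip.mapIso unitObjIso.symm ≪≫ unitTR

/-- The `n`-th map `X ⟶ X ⊗ O_s`, `x ↦ x / sⁿ`. -/
noncomputable def leg (n : ℕ) : 𝟭 (ModSite.Mod O) ⟶ tR (locAway s (ModSite.unit O)) :=
  rho.inv ≫ (ModSite.tensorBi O).flip.map
    (Sigma.ι (fun _ : ℕ => ModSite.unit O) n ≫ cokernel.π (awayMap s (ModSite.unit O)))

lemma leg_eq (X : ModSite.Mod O) (n : ℕ) :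
    (leg s n).app X = rho.inv.app X ≫ (tL X).map
      (Sigma.ι (fun _ : ℕ => ModSite.unit O) n ≫ cokernel.π (awayMap s (ModSite.unit O))) := rfl

lemma leg_succ (X : ModSite.Mod O) (n : ℕ) :
    (leg s n).app X = smulEnd s X ≫ (leg s (n + 1)).app X := by
  have h : Sigma.ι (fun _ : ℕ => ModSite.unit O) n ≫ cokernel.π (awayMap s (ModSite.unit O)) =
      smulEnd s _ ≫ Sigma.ι (fun _ : ℕ => ModSite.unit O) (n + 1) ≫
        cokernel.π (awayMap s (ModSite.unit O)) := by
    rw [← sub_eq_zero, ← Category.assoc, ← Preadditive.sub_comp, ← ι_awayMap, Category.assoc,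
      cokernel.condition, comp_zero]
  rw [leg_eq, leg_eq, h, Functor.map_comp, tL_map_smulEnd, ← Category.assoc, ← Category.assoc]
  exact congrArg (· ≫ _) (smulEnd_comm s (rho.inv.app X)).symm

variable {s}

lemma leg_hom_ext {X F : ModSite.Mod O} {g h : (tR (locAway s (ModSite.unit O))).obj X ⟶ F}
    (e : ∀ n, (leg s n).app X ≫ g = (leg s n).app X ≫ h) : g = h := by
  have := tL_preservesColimits X
  have : Epi ((tL X).map (cokernel.π (awayMap s (ModSite.unit O)))) := inferInstance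
  rw [← cancel_epi ((tL X).map (cokernel.π (awayMap s (ModSite.unit O))))]
  refine (isColimitOfPreserves (tL X) (coproductIsCoproduct fun _ : ℕ => ModSite.unit O)).hom_ext
    fun ⟨n⟩ => ?_
  change (tL X).map (Sigma.ι _ n) ≫ _ = (tL X).map (Sigma.ι _ n) ≫ _
  rw [← Functor.map_comp_assoc, ← Functor.map_comp_assoc, ← cancel_epi (rho.inv.app X),
    ← Category.assoc, ← Category.assoc]
  exact e n

lemma exists_leg_desc {X F : ModSite.Mod O} (f : ℕ → (X ⟶ F))
    (hf : ∀ n, f n = smulEnd s X ≫ f (n + 1)) :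
    ∃ h : (tR (locAway s (ModSite.unit O))).obj X ⟶ F, ∀ n, (leg s n).app X ≫ h = f n := by
  have := tL_preservesColimits X
  have hS := isColimitOfPreserves (tL X) (coproductIsCoproduct fun _ : ℕ => ModSite.unit O)
  let c : Cocone ((Discrete.functor fun _ : ℕ => ModSite.unit O) ⋙ tL X) :=
    { pt := F, ι := Discrete.natTrans fun n => rho.hom.app X ≫ f n.as }
  let g : (tL X).obj (∐ fun _ : ℕ => ModSite.unit O) ⟶ F := hS.desc c
  have hg : ∀ n, (tL X).map (Sigma.ι _ n) ≫ g = rho.hom.app X ≫ f n := fun n => hS.fac c ⟨n⟩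
  have h0 : (tL X).map (awayMap s (ModSite.unit O)) ≫ g = 0 := by
    refine hS.hom_ext fun ⟨n⟩ => ?_
    change (tL X).map (Sigma.ι _ n) ≫ _ = (tL X).map (Sigma.ι _ n) ≫ (0 : _ ⟶ F)
    have := (tensor_flip_preservesColimits X)
    have : (tL X).Additive := inferInstance
    rw [← Functor.map_comp_assoc, ι_awayMap, Functor.map_sub, Functor.map_comp, tL_map_smulEnd,
      Preadditive.sub_comp, Category.assoc, hg, hg, comp_zero, sub_eq_zero]
    exact (congrArg (rho.hom.app X ≫ ·) (hf n)).trans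
      (((Category.assoc _ _ _).symm.trans (congrArg (· ≫ f (n + 1))
        (smulEnd_comm s (rho.hom.app X)).symm)).trans (Category.assoc _ _ _))
  obtain ⟨h, hh⟩ := CokernelCofork.IsColimit.desc'
    (CokernelCofork.mapIsColimit _ (cokernelIsCokernel (awayMap s (ModSite.unit O))) (tL X)) g h0
  refine ⟨h, fun n => ?_⟩
  rw [leg_eq, Functor.map_comp, Category.assoc, Category.assoc]
  have hh' : (tL X).map (cokernel.π (awayMap s (ModSite.unit O))) ≫ h = g := hh
  rw [hh', hg]
  exact (Category.assoc _ _ _).symm.trans ((congrArg (· ≫ f n) (rho.inv_hom_id_app X)).trans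
    (Category.id_comp _))

lemma leg_naturality {X Y : ModSite.Mod O} (g : X ⟶ Y) (n : ℕ) :
    g ≫ (leg s n).app Y = (leg s n).app X ≫ (tR (locAway s (ModSite.unit O))).map g :=
  (leg s n).naturality g

/-- The quotient map `⊕ X ⟶ X ⊗ O_s`. -/
noncomputable def quot (s : GSec O) (X : ModSite.Mod O) :
    (∐ fun _ : ℕ => X) ⟶ (tR (locAway s (ModSite.unit O))).obj X :=
  Sigma.desc fun n => (leg s n).app X

@[reassoc]
lemma ι_quot (X : ModSite.Mod O) (n : ℕ) :
    Sigma.ι (fun _ : ℕ => X) n ≫ quot s X = (leg s n).app X :=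
  Sigma.ι_desc _ _

lemma awayMap_quot (X : ModSite.Mod O) : awayMap s X ≫ quot s X = 0 :=
  Sigma.hom_ext _ _ fun n => by
    rw [← Category.assoc, ι_awayMap, Preadditive.sub_comp, Category.assoc, ι_quot, ι_quot,
      ← leg_succ, sub_self, comp_zero]

lemma epi_quot (X : ModSite.Mod O) : Epi (quot s X) :=
  ⟨fun g h e => leg_hom_ext fun n => by rw [← ι_quot, Category.assoc, Category.assoc, e]⟩

lemma exact_quot (X : ModSite.Mod O) :
    (ShortComplex.mk (awayMap s X) (quot s X) (awayMap_quot X)).Exact := by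
  have := epi_quot (s := s) X
  have hd : ∀ {W : ModSite.Mod O} (g : (∐ fun _ : ℕ => X) ⟶ W), awayMap s X ≫ g = 0 →
      ∃ h : (tR (locAway s (ModSite.unit O))).obj X ⟶ W, quot s X ≫ h = g := fun {W} g hg => by
    obtain ⟨h, hh⟩ := exists_leg_desc (s := s) (fun n => Sigma.ι (fun _ : ℕ => X) n ≫ g) fun n => by
      have := Sigma.ι (fun _ : ℕ => X) n ≫= hg
      rw [← Category.assoc, ι_awayMap, Preadditive.sub_comp, Category.assoc, comp_zero, sub_eq_zero]
        at this
      exact this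
    exact ⟨h, Sigma.hom_ext _ _ fun n => by rw [ι_quot_assoc, hh]⟩
  exact ShortComplex.exact_of_g_is_cokernel _ (CokernelCofork.IsColimit.ofπ _ _
    (fun g hg => (hd g hg).choose) (fun g hg => (hd g hg).choose_spec)
    (fun g hg m hm => (cancel_epi (quot s X)).1 (hm.trans (hd g hg).choose_spec.symm)))

/-- The endofunctor `X ↦ ⊕ X` on morphisms. -/
noncomputable def sumMap {X Y : ModSite.Mod O} (g : X ⟶ Y) :
    (∐ fun _ : ℕ => X) ⟶ ∐ fun _ : ℕ => Y :=
  Sigma.desc fun n => g ≫ Sigma.ι (fun _ : ℕ => Y) n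

@[reassoc (attr := simp)]
lemma ι_sumMap {X Y : ModSite.Mod O} (g : X ⟶ Y) (n : ℕ) :
    Sigma.ι (fun _ : ℕ => X) n ≫ sumMap g = g ≫ Sigma.ι (fun _ : ℕ => Y) n :=
  Sigma.ι_desc _ _

@[reassoc]
lemma awayMap_sumMap {X Y : ModSite.Mod O} (g : X ⟶ Y) :
    awayMap s X ≫ sumMap g = sumMap g ≫ awayMap s Y := by
  refine Sigma.hom_ext _ _ fun n => ?_
  rw [ι_sumMap_assoc, reassoc_of% (ι_awayMap s X n), ι_awayMap, Preadditive.sub_comp,
    Preadditive.comp_sub, ι_sumMap, Category.assoc, ι_sumMap, reassoc_of% (smulEnd_comm s g)]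

@[reassoc]
lemma quot_naturality {X Y : ModSite.Mod O} (g : X ⟶ Y) :
    sumMap g ≫ quot s Y = quot s X ≫ (tR (locAway s (ModSite.unit O))).map g :=
  Sigma.hom_ext _ _ fun n => by
    rw [ι_sumMap_assoc, ι_quot, ι_quot_assoc]
    exact leg_naturality g n

lemma mono_sumMap {X Y : ModSite.Mod O} (g : X ⟶ Y) [Mono g] : Mono (sumMap g) := by
  have := sheaf_isGrothendieckAbelian (ModSite.ringSh O)
  have := mono_sigmaToPi X
  let m : (∏ᶜ fun _ : ℕ => X) ⟶ ∏ᶜ fun _ : ℕ => Y :=
    Pi.lift fun n => Pi.π (fun _ : ℕ => X) n ≫ g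
  have : Mono m := Preadditive.mono_of_cancel_zero _ fun {W} a ha => Pi.hom_ext _ _ fun n => by
    rw [← cancel_mono g, Category.assoc, zero_comp, zero_comp]
    simpa [m] using ha =≫ Pi.π (fun _ : ℕ => Y) n
  have h : sumMap g ≫ sigmaToPi Y = sigmaToPi X ≫ m := by
    refine Sigma.hom_ext _ _ fun n => Pi.hom_ext _ _ fun k => ?_
    simp only [m, ι_sumMap_assoc, Category.assoc, Pi.lift_π, ι_sigmaToPi_π, ι_sigmaToPi_π_assoc]
    by_cases hm : n = k <;> simp [hm]
  exact mono_of_mono_fac h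

variable (s)

/-- `O_s` is flat. -/
lemma isFlat_locAway : ModSite.IsFlat (locAway s (ModSite.unit O)) := by
  refine isFlat_of_mono fun A B g hg => ?_
  refine Preadditive.mono_of_cancel_zero _ fun {W} x hx => ?_
  have := epi_quot (s := s) A
  obtain ⟨W', p, _, a, ha⟩ := surjective_up_to_refinements_of_epi (quot s A) x
  have h0 : (a ≫ sumMap g) ≫ quot s B = 0 := by
    rw [Category.assoc, quot_naturality, ← reassoc_of% ha, hx, comp_zero]
  obtain ⟨W'', p', _, b, hb⟩ := (exact_quot (s := s) B).exact_up_to_refinements (a ≫ sumMap g) h0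
  have hb' : p' ≫ a ≫ sumMap g = b ≫ awayMap s B := hb
  let q := cokernel.π g
  have hq : sumMap g ≫ sumMap q = 0 := Sigma.hom_ext _ _ fun n => by
    simp [q]
  have hbq : b ≫ sumMap q = 0 := by
    have := mono_awayMap s (cokernel g)
    rw [← cancel_mono (awayMap s (cokernel g)), zero_comp, Category.assoc, ← awayMap_sumMap,
      ← Category.assoc, ← hb', Category.assoc, Category.assoc, hq, comp_zero, comp_zero]
  have := mono_sumMap g
  have hex : (ShortComplex.mk (sumMap g) (sumMap q) hq).Exact := by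
    have hd : ∀ {W : ModSite.Mod O} (k : (∐ fun _ : ℕ => B) ⟶ W), sumMap g ≫ k = 0 →
        ∀ n, g ≫ Sigma.ι (fun _ : ℕ => B) n ≫ k = 0 := fun k hk n => by
      have := Sigma.ι (fun _ : ℕ => A) n ≫= hk
      simpa using this
    exact ShortComplex.exact_of_g_is_cokernel _ (CokernelCofork.IsColimit.ofπ _ _
      (fun k hk => Sigma.desc fun n => cokernel.desc g _ (hd k hk n))
      (fun k hk => Sigma.hom_ext _ _ fun n => by simp [q])
      (fun k hk m hm => Sigma.hom_ext _ _ fun n => by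
        refine (cancel_epi q).1 (Eq.trans ?_ (show Sigma.ι (fun _ : ℕ => B) n ≫ k = _ by simp [q]))
        exact (ι_sumMap_assoc q n m).symm.trans (congrArg (Sigma.ι (fun _ : ℕ => B) n ≫ ·) hm)))
  have : Mono (ShortComplex.mk (sumMap g) (sumMap q) hq).f := mono_sumMap g
  obtain ⟨b', hb''⟩ := (⟨hex.lift b hbq, hex.lift_f b hbq⟩ :
    ∃ b' : W'' ⟶ ∐ fun _ : ℕ => A, b' ≫ sumMap g = b)
  have : p' ≫ a = b' ≫ awayMap s A := by
    rw [← cancel_mono (sumMap g), Category.assoc, hb', Category.assoc, awayMap_sumMap,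
      ← Category.assoc, hb'']
  rw [← cancel_epi p, comp_zero, ha, ← cancel_epi p', comp_zero, ← Category.assoc, this,
    Category.assoc, awayMap_quot, comp_zero]

/-- `1 - s · shift` on a countable product. -/
noncomputable def psi (F : ModSite.Mod O) : (∏ᶜ fun _ : ℕ => F) ⟶ ∏ᶜ fun _ : ℕ => F :=
  Pi.lift fun n => Pi.π (fun _ : ℕ => F) n - Pi.π (fun _ : ℕ => F) (n + 1) ≫ smulEnd s F

@[reassoc]
lemma psi_π (F : ModSite.Mod O) (n : ℕ) :
    psi s F ≫ Pi.π (fun _ : ℕ => F) n =
      Pi.π (fun _ : ℕ => F) n - Pi.π (fun _ : ℕ => F) (n + 1) ≫ smulEnd s F :=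
  Pi.lift_π _ _

/-- `F ↦ ∏ F`. -/
@[simps]
noncomputable def piFun : ModSite.Mod O ⥤ ModSite.Mod O where
  obj F := ∏ᶜ fun _ : ℕ => F
  map {X Y} f := Pi.lift fun n => Pi.π (fun _ : ℕ => X) n ≫ f
  map_id X := Pi.hom_ext _ _ fun n => by simp
  map_comp f g := Pi.hom_ext _ _ fun n => by simp

instance : (piFun (O := O)).Additive :=
  ⟨fun {X Y f g} => Pi.hom_ext _ _ fun n => by
    change Pi.lift _ ≫ Pi.π (fun _ : ℕ => Y) n =
      ((Pi.lift fun k => Pi.π (fun _ : ℕ => X) k ≫ f) + Pi.lift fun k => Pi.π (fun _ : ℕ => X) k ≫ g :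
        (∏ᶜ fun _ : ℕ => X) ⟶ ∏ᶜ fun _ : ℕ => Y) ≫ Pi.π (fun _ : ℕ => Y) n
    simp⟩

/-- `1 - s · shift`, naturally. -/
noncomputable def psiNat : piFun (O := O) ⟶ piFun where
  app F := psi s F
  naturality F G f := Pi.hom_ext _ _ fun n => by
    change ((Pi.lift fun k => Pi.π (fun _ : ℕ => F) k ≫ f) ≫ psi s G) ≫ Pi.π (fun _ : ℕ => G) n =
      (psi s F ≫ Pi.lift fun k => Pi.π (fun _ : ℕ => F) k ≫ f) ≫ Pi.π (fun _ : ℕ => G) n
    simp only [piFun_map, Category.assoc, psi_π, Pi.lift_π,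
      Preadditive.comp_sub, psi_π_assoc, Preadditive.sub_comp, Pi.lift_π_assoc, smulEnd_comm]

/-- `F ↦ lim (… → F →s F →s F)`. -/
@[simps]
noncomputable def lim' : ModSite.Mod O ⥤ ModSite.Mod O where
  obj F := kernel (psi s F)
  map f := kernel.map _ _ (piFun.map f) (piFun.map f) ((psiNat s).naturality f).symm
  map_id F := (cancel_mono (kernel.ι (psi s F))).1 (by
    rw [kernel.lift_ι, piFun.map_id]; exact (Category.comp_id _).trans (Category.id_comp _).symm)
  map_comp f g := (cancel_mono (kernel.ι (psi s _))).1 (by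
    simp only [kernel.map, Category.assoc, kernel.lift_ι, kernel.lift_ι_assoc, piFun.map_comp]
    rfl)

lemma kernel_ι_compat {X F : ModSite.Mod O} (y : X ⟶ kernel (psi s F)) (n : ℕ) :
    y ≫ kernel.ι (psi s F) ≫ Pi.π (fun _ : ℕ => F) n =
      smulEnd s X ≫ y ≫ kernel.ι (psi s F) ≫ Pi.π (fun _ : ℕ => F) (n + 1) := by
  have h := (kernel.condition (psi s F)) =≫ Pi.π (fun _ : ℕ => F) n
  rw [Category.assoc, psi_π, Preadditive.comp_sub, zero_comp, sub_eq_zero] at h
  rw [h, ← Category.assoc (kernel.ι _), ← Category.assoc, ← smulEnd_comm]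

lemma psi_lift_zero {X F : ModSite.Mod O} (f : ℕ → (X ⟶ F)) (hf : ∀ n, f n = smulEnd s X ≫ f (n + 1)) :
    Pi.lift f ≫ psi s F = 0 :=
  Pi.hom_ext _ _ fun n => by
    rw [Category.assoc, psi_π, Preadditive.comp_sub, Pi.lift_π, Pi.lift_π_assoc, zero_comp, sub_eq_zero,
      ← smulEnd_comm]
    exact hf n

/-- Morphisms out of `X ⊗ O_s`. -/
noncomputable def homEquiv (X F : ModSite.Mod O) :
    ((tR (locAway s (ModSite.unit O))).obj X ⟶ F) ≃ (X ⟶ (lim' s).obj F) where
  toFun h := kernel.lift _ (Pi.lift fun n => (leg s n).app X ≫ h)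
    (psi_lift_zero s _ fun n => by rw [leg_succ s X n, Category.assoc])
  invFun y := (exists_leg_desc (s := s)
    (fun n => y ≫ kernel.ι (psi s F) ≫ Pi.π (fun _ : ℕ => F) n) (kernel_ι_compat s y)).choose
  left_inv h := leg_hom_ext fun n => by
    rw [(exists_leg_desc (s := s) (fun n => _ ≫ kernel.ι (psi s F) ≫ Pi.π (fun _ : ℕ => F) n)
      (kernel_ι_compat s _)).choose_spec n, kernel.lift_ι_assoc, Pi.lift_π]
  right_inv y := (cancel_mono (kernel.ι (psi s F))).1 (Pi.hom_ext _ _ fun n => by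
    rw [kernel.lift_ι, Pi.lift_π, (exists_leg_desc (s := s) _ (kernel_ι_compat s y)).choose_spec n,
      Category.assoc])

/-- `- ⊗ O_s` is left adjoint to `lim'`. -/
noncomputable def adj : tR (locAway s (ModSite.unit O)) ⊣ lim' s :=
  Adjunction.mkOfHomEquiv
    { homEquiv := homEquiv s
      homEquiv_naturality_left_symm := fun {X' X F} f g => by
        apply (homEquiv s X' F).injective
        rw [Equiv.apply_symm_apply]
        refine (cancel_mono (kernel.ι (psi s F))).1 (Pi.hom_ext _ _ fun n => ?_)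
        simp only [homEquiv, Equiv.coe_fn_mk, Equiv.coe_fn_symm_mk, kernel.lift_ι, Pi.lift_π,
          Category.assoc]
        rw [← reassoc_of% (leg_naturality f n),
          (exists_leg_desc (s := s) _ (kernel_ι_compat s g)).choose_spec n]
        exact Category.assoc _ _ _
      homEquiv_naturality_right := fun {X F F'} h f => by
        refine (cancel_mono (kernel.ι (psi s F'))).1 (Pi.hom_ext _ _ fun n => ?_)
        change (kernel.lift (psi s F') (Pi.lift fun n => (leg s n).app X ≫ h ≫ f) _ ≫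
          kernel.ι (psi s F')) ≫ Pi.π (fun _ : ℕ => F') n =
          ((kernel.lift (psi s F) (Pi.lift fun n => (leg s n).app X ≫ h) _ ≫
            kernel.lift (psi s F') (kernel.ι (psi s F) ≫ piFun.map f) _) ≫ kernel.ι (psi s F')) ≫
              Pi.π (fun _ : ℕ => F') n
        simp only [Category.assoc, kernel.lift_ι_assoc, piFun_map, Pi.lift_π, Pi.lift_π_assoc] }

/-- `1 - s · shift` is an epimorphism on injectives. -/
lemma epi_psi (F : ModSite.Mod O) [Injective F] : Epi (psi s F) := by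
  let X := ∏ᶜ fun _ : ℕ => F
  have := mono_awayMap s X
  let h := Injective.factorThru (Sigma.desc fun n => Pi.π (fun _ : ℕ => F) n : (∐ fun _ : ℕ => X) ⟶ F)
    (awayMap s X)
  have hh : ∀ n, Sigma.ι (fun _ : ℕ => X) n ≫ h - smulEnd s X ≫ Sigma.ι (fun _ : ℕ => X) (n + 1) ≫ h =
      Pi.π (fun _ : ℕ => F) n := fun n => by
    have := Sigma.ι (fun _ : ℕ => X) n ≫= Injective.comp_factorThru
      (Sigma.desc fun n => Pi.π (fun _ : ℕ => F) n : (∐ fun _ : ℕ => X) ⟶ F) (awayMap s X)
    rwa [← Category.assoc, ι_awayMap, Sigma.ι_desc, Preadditive.sub_comp, Category.assoc] at this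
  refine (SplitEpi.mk (Pi.lift fun n => Sigma.ι (fun _ : ℕ => X) n ≫ h) ?_).epi
  refine Pi.hom_ext _ _ fun n => ?_
  rw [Category.assoc, psi_π, Preadditive.comp_sub, Pi.lift_π, Pi.lift_π_assoc, Category.id_comp,
    ← smulEnd_comm]
  exact hh n

end Tensor

end Groth.Agent.DerCompRHom
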