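import Groth.Agent.TriH.ReflectGen
import Groth.Agent.ModGroth.Basic
import Groth.Prelude.Def_DerComp

/-!
# Derived completion exists for every sheaf of ideals
-/

set_option autoImplicit false

universe u

open CategoryTheory CategoryTheory.Limits Opposite

attribute [local instance] HasDerivedCategory.standard

namespace Groth.Agent.DerCompRHom

open DerComp

variable {C : Type u} [SmallCategory C] {J : GrothendieckTopology C} (O : Sheaf J CommRingCat.{u})
  (I : IdealSh O)

/-- The complexes testing derived completeness. -/
noncomputable def testCx (x : Σ U : C, {f : O.obj.obj (op U) // f ∈ I.ideal U}) :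
    CochainComplex (ModSite.Mod O) ℤ :=
  (CochainComplex.singleFunctor (ModSite.Mod O) 0).obj ((ModSite.extZero O x.1).obj (awayOver O x.1 x.2.1))

lemma isDerComp_eq_orth : IsDerComp O I = TriH.ReflectGen.orth (testCx O I) := by
  ext K
  have e : ∀ (x : Σ U : C, {f : O.obj.obj (op U) // f ∈ I.ideal U}),
      DerivedCategory.Q.obj (testCx O I x) ≅ SiteCmp.inD O ((ModSite.extZero O x.1).obj (awayOver O x.1 x.2.1)) :=
    fun x => ((DerivedCategory.singleFunctorIsoCompQ (ModSite.Mod O) 0).app _).symm
  constructor
  · intro h x n
    have := h x.1 x.2.1 x.2.2 n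
    exact ((e x).homFromEquiv).subsingleton
  · intro h U f hf n
    have := h ⟨U, f, hf⟩ n
    exact ((e ⟨U, f, hf⟩).homFromEquiv).symm.subsingleton

/-- Derived completion exists for every sheaf of ideals. -/
theorem hasDerCompletion : HasDerCompletion O I := by
  have := ModGroth.sheaf_isGrothendieckAbelian (ModSite.ringSh O)
  change (IsDerComp O I).ι.IsRightAdjoint
  rw [isDerComp_eq_orth]
  exact TriH.ReflectGen.isRightAdjoint_orth

end Groth.Agent.DerCompRHom
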