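import Groth.Agent.DerCompRHom.Away
import Groth.Agent.SiteMod.LTensorSite
import Groth.Agent.KFlat.Tensor
import Groth.Agent.TriH.DerivedProducts
import Groth.Agent.RlimLib.RlimSingle

/-!
# `RHom(O_s, K)` is the derived limit of multiplication by `s` on `K`

`- ⊗ᴸ O_s` is computed termwise, so its right adjoint sends a K-injective `I` to the termwise
`lim (… → I →s I)`, which sits in a short exact sequence with `∏ I → ∏ I`.
-/

set_option autoImplicit false

universe u v w t

open CategoryTheory CategoryTheory.Limits CategoryTheory.Pretriangulated HomologicalComplex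

attribute [local instance] HasDerivedCategory.standard

namespace Groth.Agent.DerCompRHom

section Products

variable {A : Type w} [Category.{v} A] [Abelian A] {T : Type t} {I : T → CochainComplex A ℤ}
  {c : Fan I}

lemma isKInjective_fan (hc : IsLimit c) (hI : ∀ t, (I t).IsKInjective) : c.pt.IsKInjective where
  nonempty_homotopy_zero {K} f hK := by
    rw [TriH.nullHomotopic_iff_exists_extension]
    choose ψ hψ using fun t => (TriH.nullHomotopic_iff_exists_extension (f ≫ c.proj t)).1
      ((hI t).nonempty_homotopy_zero _ hK)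
    obtain ⟨l, hl⟩ : ∃ l, ∀ t, l ≫ c.proj t = ψ t := ⟨hc.lift (Fan.mk _ ψ), fun t => hc.fac _ ⟨t⟩⟩
    exact ⟨l, hc.hom_ext fun ⟨t⟩ => by
      change (_ ≫ l) ≫ c.proj t = f ≫ c.proj t
      rw [Category.assoc, hl, hψ]⟩

/-- A product of K-injective complexes is a product in the derived category. -/
noncomputable def isLimitQFan (hc : IsLimit c) (hI : ∀ t, (I t).IsKInjective) :
    IsLimit (Fan.mk (DerivedCategory.Q.obj c.pt) fun t => DerivedCategory.Q.map (c.proj t)) := by
  haveI := hI
  haveI := isKInjective_fan hc hI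
  have hlift : ∀ (W : DerivedCategory A) (g : ∀ t, W ⟶ DerivedCategory.Q.obj (I t)),
      ∃! l : W ⟶ DerivedCategory.Q.obj c.pt, ∀ t, l ≫ DerivedCategory.Q.map (c.proj t) = g t := by
    intro W g
    obtain ⟨X, ⟨e⟩⟩ : ∃ X, Nonempty (DerivedCategory.Q.obj X ≅ W) :=
      ⟨_, ⟨DerivedCategory.Q.objObjPreimageIso W⟩⟩
    choose a ha using fun t => TriH.Q_map_surjective_of_isKInjective X (I t) (e.hom ≫ g t)
    obtain ⟨l, hl⟩ : ∃ l, ∀ t, l ≫ c.proj t = a t := ⟨hc.lift (Fan.mk _ a), fun t => hc.fac _ ⟨t⟩⟩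
    refine ⟨e.inv ≫ DerivedCategory.Q.map l, fun t => ?_, fun k hk => ?_⟩
    · rw [Category.assoc, ← Functor.map_comp, hl, ha, Iso.inv_hom_id_assoc]
    · obtain ⟨b, hb⟩ := TriH.Q_map_surjective_of_isKInjective X c.pt (e.hom ≫ k)
      rw [Iso.eq_inv_comp, ← hb, ← sub_eq_zero, ← Functor.map_sub,
        TriH.Q_map_eq_zero_iff_of_isKInjective, TriH.nullHomotopic_iff_exists_extension]
      have : ∀ t, Nonempty (Homotopy ((b - l) ≫ c.proj t) 0) := fun t => by
        rw [← TriH.Q_map_eq_zero_iff_of_isKInjective]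
        simp [hb, hk t, ← ha t, ← hl t]
      choose ψ hψ using fun t => (TriH.nullHomotopic_iff_exists_extension _).1 (this t)
      obtain ⟨m, hm⟩ : ∃ m, ∀ t, m ≫ c.proj t = ψ t := ⟨hc.lift (Fan.mk _ ψ), fun t => hc.fac _ ⟨t⟩⟩
      exact ⟨m, hc.hom_ext fun ⟨t⟩ => by
        change (_ ≫ m) ≫ c.proj t = (b - l) ≫ c.proj t
        rw [Category.assoc, hm, hψ]⟩
  exact Fan.IsLimit.mk _ (fun s => (hlift s.pt (fun t => s.proj t)).choose)
    (fun s t => (hlift s.pt (fun t => s.proj t)).choose_spec.1 t)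
    (fun s m hm => (hlift s.pt (fun t => s.proj t)).choose_spec.2 m hm)

end Products

open Groth.Agent.ModGroth DerComp

variable {C : Type u} [SmallCategory C] {J : GrothendieckTopology C} {O : Sheaf J CommRingCat.{u}}

/-- `(- ⊗ M)` termwise is `- ⊗ M[0]`, naturally. -/
noncomputable def singleNat (M : ModSite.Mod O) :
    (tR M).mapHomologicalComplex (ComplexShape.up ℤ) ≅
      (ModSite.tensorCx O).flip.obj ((CochainComplex.singleFunctor (ModSite.Mod O) 0).obj M) :=
  NatIso.ofComponents (fun K => KFlat.singleIso (ModSite.tensorBi O) K M) fun {K L} f => by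
    refine HomologicalComplex.hom_ext _ _ fun n => ?_
    change ((ModSite.tensorBi O).map (f.f n)).app M ≫ (KFlat.singleX (ModSite.tensorBi O) L M n).hom =
      (KFlat.singleX (ModSite.tensorBi O) K M n).hom ≫ (mapBifunctorMap f (𝟙 _) (ModSite.tensorBi O)
        (ComplexShape.up ℤ)).f n
    simp [KFlat.singleX]

variable (s : GSec O)

/-- `O_s`. -/
noncomputable abbrev Os : ModSite.Mod O := locAway s (ModSite.unit O)

/-- `O_s` in degree zero. -/
noncomputable abbrev OsCx : CochainComplex (ModSite.Mod O) ℤ :=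
  (CochainComplex.singleFunctor (ModSite.Mod O) 0).obj (Os s)

instance preservesFiniteLimits_Os : PreservesFiniteLimits (tR (Os s)) := (isFlat_locAway s).1

instance preservesFiniteColimits_Os : PreservesFiniteColimits (tR (Os s)) := (isFlat_locAway s).2

instance additive_lim' : (lim' s).Additive := (adj s).right_adjoint_additive

lemma isKFlat_OsCx : ModSite.IsKFlat (OsCx s) :=
  KFlat.flatR_single (ModSite.tensorBi O) (Os s) 0

variable [ModSite.HasLTensorCx (OsCx s)]

/-- `- ⊗ᴸ O_s` is computed termwise. -/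
noncomputable def ltIso :
    DerivedCategory.Q ⋙ ModSite.LTensorCx (OsCx s) ≅
      (tR (Os s)).mapHomologicalComplex (ComplexShape.up ℤ) ⋙ DerivedCategory.Q :=
  SiteMod.LTensor.valueIso (OsCx s) (isKFlat_OsCx s) ≪≫
    Functor.isoWhiskerRight (singleNat (Os s)).symm DerivedCategory.Q

/-- `lim'` termwise. -/
noncomputable abbrev limCx (I : CochainComplex (ModSite.Mod O) ℤ) : CochainComplex (ModSite.Mod O) ℤ :=
  ((lim' s).mapHomologicalComplex (ComplexShape.up ℤ)).obj I

/-- The counit, termwise. -/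
@[simps]
noncomputable def counitCx (I : CochainComplex (ModSite.Mod O) ℤ) :
    ((tR (Os s)).mapHomologicalComplex (ComplexShape.up ℤ)).obj (limCx s I) ⟶ I where
  f n := (adj s).counit.app (I.X n)
  comm' i j _ := ((adj s).counit.naturality (I.d i j)).symm

/-- The unit, termwise. -/
@[simps]
noncomputable def unitCx (X : CochainComplex (ModSite.Mod O) ℤ) :
    X ⟶ limCx s (((tR (Os s)).mapHomologicalComplex (ComplexShape.up ℤ)).obj X) where
  f n := (adj s).unit.app (X.X n)
  comm' i j _ := ((adj s).unit.naturality (X.d i j)).symm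

variable [HasRHom (OsCx s)]

/-- The comparison `lim' I ⟶ RHom(O_s, I)`. -/
noncomputable def comparison (I : CochainComplex (ModSite.Mod O) ℤ) :
    DerivedCategory.Q.obj (limCx s I) ⟶ (RHom (OsCx s)).obj (DerivedCategory.Q.obj I) :=
  (RHomAdj (OsCx s)).homEquiv _ _
    ((ltIso s).hom.app (limCx s I) ≫ DerivedCategory.Q.map (counitCx s I))

lemma comp_comparison {X : CochainComplex (ModSite.Mod O) ℤ} (I : CochainComplex (ModSite.Mod O) ℤ)
    (f : X ⟶ limCx s I) :
    DerivedCategory.Q.map f ≫ comparison s I =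
      (RHomAdj (OsCx s)).homEquiv _ _ ((ltIso s).hom.app X ≫ DerivedCategory.Q.map
        (((tR (Os s)).mapHomologicalComplex (ComplexShape.up ℤ)).map f ≫ counitCx s I)) := by
  rw [comparison, ← Adjunction.homEquiv_naturality_left, Functor.map_comp, ← Category.assoc,
    ← Category.assoc]
  exact congrArg (fun z => (RHomAdj (OsCx s)).homEquiv _ _ (z ≫ _)) ((ltIso s).hom.naturality f)

lemma isIso_comparison (I : CochainComplex (ModSite.Mod O) ℤ) [I.IsKInjective] :
    IsIso (comparison s I) := by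
  haveI : (limCx s I).IsKInjective := TriH.isKInjective_map_of_adjunction _ _ (adj s) I
  refine isIso_of_yoneda_map_bijective _ fun W => ?_
  obtain ⟨X, ⟨e⟩⟩ : ∃ X, Nonempty (DerivedCategory.Q.obj X ≅ W) :=
    ⟨_, ⟨DerivedCategory.Q.objObjPreimageIso W⟩⟩
  constructor
  · intro g₁ g₂ hg
    obtain ⟨f₁, hf₁⟩ := TriH.Q_map_surjective_of_isKInjective X (limCx s I) (e.hom ≫ g₁)
    obtain ⟨f₂, hf₂⟩ := TriH.Q_map_surjective_of_isKInjective X (limCx s I) (e.hom ≫ g₂)
    rw [← cancel_epi e.hom, ← hf₁, ← hf₂]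
    have h : DerivedCategory.Q.map f₁ ≫ comparison s I = DerivedCategory.Q.map f₂ ≫ comparison s I := by
      rw [hf₁, hf₂, Category.assoc, Category.assoc]
      exact congrArg (e.hom ≫ ·) hg
    rw [comp_comparison, comp_comparison, Equiv.apply_eq_iff_eq, cancel_epi, ← sub_eq_zero,
      ← Functor.map_sub, TriH.Q_map_eq_zero_iff_of_isKInjective] at h
    rw [← sub_eq_zero, ← Functor.map_sub, TriH.Q_map_eq_zero_iff_of_isKInjective]
    obtain ⟨h⟩ := h
    refine ⟨(Homotopy.ofEq ?_).trans ((((lim' s).mapHomotopy h).compLeft (unitCx s X)).trans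
      (Homotopy.ofEq (by simp)))⟩
    refine HomologicalComplex.hom_ext _ _ fun n => ?_
    have key : ∀ f : X ⟶ limCx s I, f.f n = (adj s).unit.app (X.X n) ≫
        (lim' s).map ((tR (Os s)).map (f.f n) ≫ (adj s).counit.app (I.X n)) := fun f => by
      refine (((adj s).homEquiv (X.X n) (I.X n)).apply_symm_apply (f.f n)).symm.trans ?_
      rw [(adj s).homEquiv_unit, (adj s).homEquiv_counit]
      rfl
    change f₁.f n - f₂.f n = (adj s).unit.app (X.X n) ≫ (lim' s).map
      (((tR (Os s)).map (f₁.f n) ≫ (adj s).counit.app (I.X n)) -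
        ((tR (Os s)).map (f₂.f n) ≫ (adj s).counit.app (I.X n)))
    rw [Functor.map_sub, Preadditive.comp_sub, ← key, ← key]
    rfl
  · intro y
    obtain ⟨h', hh'⟩ := TriH.Q_map_surjective_of_isKInjective
      (((tR (Os s)).mapHomologicalComplex (ComplexShape.up ℤ)).obj X) I
      ((ltIso s).inv.app X ≫ ((RHomAdj (OsCx s)).homEquiv _ _).symm (e.hom ≫ y))
    let f : X ⟶ limCx s I := unitCx s X ≫ ((lim' s).mapHomologicalComplex (ComplexShape.up ℤ)).map h'
    refine ⟨e.inv ≫ DerivedCategory.Q.map f, ?_⟩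
    have hf : ((tR (Os s)).mapHomologicalComplex (ComplexShape.up ℤ)).map f ≫ counitCx s I = h' := by
      refine HomologicalComplex.hom_ext _ _ fun n => ?_
      change (tR (Os s)).map ((adj s).unit.app (X.X n) ≫ (lim' s).map (h'.f n)) ≫
        (adj s).counit.app (I.X n) = h'.f n
      exact ((congrArg ((adj s).homEquiv (X.X n) (I.X n)).symm
        ((adj s).homEquiv_unit (X.X n) (I.X n) (h'.f n))).trans ((adj s).homEquiv_counit _ _ _)).symm.trans
          (((adj s).homEquiv (X.X n) (I.X n)).symm_apply_apply (h'.f n))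
    change (e.inv ≫ DerivedCategory.Q.map f) ≫ comparison s I = y
    rw [Category.assoc, comp_comparison, hf, hh', Iso.hom_inv_id_app_assoc, Equiv.apply_symm_apply,
      Iso.inv_hom_id_assoc]

/-- `RHom(O_s, K)` is a derived limit of multiplication by `s` on `K`. -/
theorem isT_rhom_away (K : DerivedCategory (ModSite.Mod O)) [HasProduct fun _ : ℕ => K] :
    IsT s K ((RHom (OsCx s)).obj K) := by
  haveI := sheaf_isGrothendieckAbelian (ModSite.ringSh O)
  obtain ⟨I, r, hI, hr, -, hinj⟩ := TriH.exists_kInjective_resolution (DerivedCategory.Q.objPreimage K)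
  haveI := hI
  haveI := hr
  let e : DerivedCategory.Q.obj I ≅ K :=
    (asIso (DerivedCategory.Q.map r)).symm ≪≫ DerivedCategory.Q.objObjPreimageIso K
  let PI := ((piFun (O := O)).mapHomologicalComplex (ComplexShape.up ℤ)).obj I
  let p : ℕ → (PI ⟶ I) := fun n =>
    { f := fun i => Pi.π (fun _ : ℕ => I.X i) n
      comm' := fun i j _ => (Pi.lift_π (fun k => Pi.π (fun _ : ℕ => I.X i) k ≫ I.d i j) n).symm }
  let hc : IsLimit (Fan.mk PI p) := isLimitOfEval _ _ fun i =>
    (isLimitMapConeFanMkEquiv _ _ _).symm (productIsProduct fun _ : ℕ => I.X i)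
  let ψ : PI ⟶ PI := (NatTrans.mapHomologicalComplex (psiNat s) (ComplexShape.up ℤ)).app I
  let ι : limCx s I ⟶ PI :=
    { f := fun i => kernel.ι (psi s (I.X i))
      comm' := fun i j _ => (kernel.lift_ι (psi s (I.X j)) _ _).symm }
  have hιψ : ι ≫ ψ = 0 := by
    refine HomologicalComplex.hom_ext _ _ fun i => ?_
    exact kernel.condition (psi s (I.X i))
  have hS : (ShortComplex.mk ι ψ hιψ).ShortExact := shortExact_of_degreewise_shortExact _ fun i => by
    haveI := hinj i
    refine { exact := ?_, mono_f := ?_, epi_g := ?_ }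
    · exact ShortComplex.exact_of_f_is_kernel _ (kernelIsKernel (psi s (I.X i)))
    · exact inferInstanceAs (Mono (kernel.ι (psi s (I.X i))))
    · exact epi_psi s (I.X i)
  have hψ : ∀ n, ψ ≫ p n = p n - p (n + 1) ≫ (s • 𝟙 I) := fun n => by
    refine HomologicalComplex.hom_ext _ _ fun i => ?_
    simp only [comp_f, sub_f_apply, smul_f_apply, id_f]
    refine (psi_π s (I.X i) n).trans ?_
    rw [smul_def, Category.comp_id]
    rfl
  let hQ := isLimitQFan hc (fun _ => hI)
  let F : Fan fun _ : ℕ => K :=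
    Fan.mk (DerivedCategory.Q.obj PI) fun n => DerivedCategory.Q.map (p n) ≫ e.hom
  have hF : IsLimit F := (IsLimit.equivOfNatIsoOfIso (Discrete.natIso fun _ => e) _ F
    (Cone.ext (Iso.refl _) fun ⟨n⟩ => (Category.id_comp _).symm)) hQ
  let eP : DerivedCategory.Q.obj PI ≅ ∏ᶜ fun _ : ℕ => K :=
    hF.conePointUniqueUpToIso (productIsProduct fun _ : ℕ => K)
  have heP : ∀ n, eP.hom ≫ Pi.π (fun _ : ℕ => K) n = DerivedCategory.Q.map (p n) ≫ e.hom :=
    fun n => hF.conePointUniqueUpToIso_hom_comp (productIsProduct fun _ : ℕ => K) ⟨n⟩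
  haveI := isIso_comparison s I
  let eL : DerivedCategory.Q.obj (limCx s I) ≅ (RHom (OsCx s)).obj K :=
    asIso (comparison s I) ≪≫ (RHom (OsCx s)).mapIso e
  refine RlimLib.isRlim_of_iso eL ⟨DerivedCategory.Q.map ι ≫ eP.hom,
    eP.inv ≫ DerivedCategory.triangleOfSESδ hS,
    isomorphic_distinguished _ (DerivedCategory.triangleOfSES_distinguished hS) _ ?_⟩
  refine Triangle.isoMk _ _ (Iso.refl _) eP.symm eP.symm ?_ ?_ ?_
  · exact (Category.assoc _ _ _).trans ((congrArg _ eP.hom_inv_id).trans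
      ((Category.comp_id _).trans (Category.id_comp _).symm))
  · change (Pi.lift fun n => Pi.π (fun _ : ℕ => K) n - Pi.π (fun _ : ℕ => K) (n + 1) ≫ (s • 𝟙 K)) ≫
      eP.inv = eP.inv ≫ DerivedCategory.Q.map ψ
    rw [Iso.eq_inv_comp, ← Category.assoc, Iso.comp_inv_eq]
    refine Pi.hom_ext _ _ fun n => ?_
    rw [Category.assoc, Pi.lift_π, Category.assoc, heP, ← Functor.map_comp_assoc, hψ,
      Preadditive.comp_sub, heP, Functor.map_sub, Functor.map_comp, Functor.map_smul,
      CategoryTheory.Functor.map_id, Preadditive.sub_comp]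
    simp [heP (n + 1)]
  · refine (congrArg ((eP.inv ≫ DerivedCategory.triangleOfSESδ hS) ≫ ·) ?_).trans (Category.comp_id _)
    exact CategoryTheory.Functor.map_id _ _

end Groth.Agent.DerCompRHom
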